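import Groth.Agent.H02CA.VBPn.RankSum
import Groth.Agent.H17.IdealPairExact
import Groth.Agent.H17.Canon.QuasiRank
import Groth.Agent.H29Blow.IdealMod
import Groth.Agent.H29Slice.KoszulReg
import Groth.Agent.H29Slice.H1Quasi
import Groth.Agent.H10Coh.Zpair.Main

/-!
# The conormal sheaf of an intersection of closed subschemes
-/

set_option autoImplicit false
set_option linter.style.haveILetI false
set_option backward.isDefEq.respectTransparency false
set_option maxHeartbeats 800000
universe u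

open CategoryTheory CategoryTheory.Limits AlgebraicGeometry TopologicalSpace Opposite
open Groth.Agent.H06Mod

namespace Groth.Agent.H17.ConormalSum

variable {X : Scheme.{u}}

/-- The stalks of a locally free module of finite rank. -/
theorem finrank_stalk' {M : X.Modules} {r : ℕ} (h : FlatMod.IsFinLocFreeOfRank r M) (x : X) :
    Module.Free (X.presheaf.stalk x) (M.presheaf.stalk x) ∧ Module.Finite (X.presheaf.stalk x) (M.presheaf.stalk x) ∧
      Module.finrank (X.presheaf.stalk x) (M.presheaf.stalk x) = r := by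
  obtain ⟨W, hxW, ⟨e⟩⟩ := h x
  obtain ⟨V, hV, hxV, hle⟩ := exists_isAffineOpen_mem_and_subset (x := x) (U := W) hxW
  obtain ⟨bW⟩ := H8Props.FinLocFree.exists_basis_of_chart _ e hle
  have hq : Coh.IsQCoh M := H8Props.FinLocFree.isQCoh_of_isFinLocFree _ fun y => let ⟨U, hU⟩ := h y; ⟨U, r, hU⟩
  obtain ⟨b⟩ := H22Alg.ExtPowSum.exists_stalkBasis hq hV bW hxV
  exact ⟨Module.Free.of_basis b, Module.Finite.of_basis b, (Module.finrank_eq_card_basis b).trans (Fintype.card_fin r)⟩

/-- The rank of a finite direct sum on stalks. -/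
theorem finrank_sigma_stalk {N : ℕ} (L : Fin N → X.Modules) (x : X) (d : Fin N → ℕ)
    (hL : ∀ l, FlatMod.IsFinLocFreeOfRank (d l) (L l)) :
    Module.Free (X.presheaf.stalk x) ((∐ L).presheaf.stalk x) ∧
      Module.Finite (X.presheaf.stalk x) ((∐ L).presheaf.stalk x) ∧
      Module.finrank (X.presheaf.stalk x) ((∐ L).presheaf.stalk x) = ∑ l, d l := by
  let A := X.presheaf.stalk x
  haveI := fun l => (finrank_stalk' (hL l) x).1
  haveI := fun l => (finrank_stalk' (hL l) x).2.1
  let φ : (∀ l, (L l).presheaf.stalk x) →ₗ[A] (∐ L).presheaf.stalk x :=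
    ∑ l, stalkLin (Sigma.ι L l) x ∘ₗ LinearMap.proj l
  let ψ : (∐ L).presheaf.stalk x →ₗ[A] (∀ l, (L l).presheaf.stalk x) :=
    LinearMap.pi fun l => stalkLin (H02CA.Euler.proj L l) x
  have h1 : ∀ z, φ (ψ z) = z := fun z => by
    conv_rhs => rw [← H02CA.Tango.stalkLin_id' x z, ← H02CA.Euler.sum_proj_ι,
      H02CA.Tango.stalkLin_sum, LinearMap.sum_apply]
    simp only [φ, ψ, LinearMap.sum_apply, LinearMap.comp_apply, LinearMap.proj_apply, LinearMap.pi_apply]
    exact Finset.sum_congr rfl fun l _ => (H29Omega.stalkLin_comp _ _ _ _).symm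
  have h2 : ∀ r, ψ (φ r) = r := fun r => funext fun m => by
    simp only [φ, ψ, LinearMap.sum_apply, LinearMap.comp_apply, LinearMap.proj_apply, LinearMap.pi_apply, map_sum]
    rw [Finset.sum_eq_single m (fun l _ hl => ?_) (by simp)]
    · rw [← H29Omega.stalkLin_comp, H02CA.Euler.ι_proj, dif_pos rfl, eqToHom_refl, H02CA.Tango.stalkLin_id']
    · rw [← H29Omega.stalkLin_comp, H02CA.Euler.ι_proj, dif_neg hl, H02CA.Tango.stalkLin_zero]
      rfl
  let e : (∀ l, (L l).presheaf.stalk x) ≃ₗ[A] (∐ L).presheaf.stalk x :=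
    LinearEquiv.ofLinearMap φ ψ (LinearMap.ext h1) (LinearMap.ext h2)
  refine ⟨Module.Free.of_equiv e, Module.Finite.equiv e, ?_⟩
  rw [← e.finrank_eq, Module.finrank_pi_fintype]
  exact Finset.sum_congr rfl fun l _ => (finrank_stalk' (hL l) x).2.2

/-- An epimorphism between modules with free stalks of the same rank is an isomorphism. -/
theorem isIso_of_epi {L M : X.Modules} (s : L ⟶ M) [Epi s]
    (h : ∀ x : X, ∃ r, (Module.Free (X.presheaf.stalk x) (L.presheaf.stalk x) ∧
      Module.Finite (X.presheaf.stalk x) (L.presheaf.stalk x) ∧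
        Module.finrank (X.presheaf.stalk x) (L.presheaf.stalk x) = r) ∧
      FlatMod.IsFinLocFreeOfRank r M) : IsIso s := by
  refine H16Derived.KFlat.Stalk.isIso_of_stalk _ fun x => ?_
  obtain ⟨r, ⟨hf, hfin, hr⟩, hM⟩ := h x
  obtain ⟨hf', hfin', hr'⟩ := finrank_stalk' hM x
  haveI := hf
  haveI := hf'
  haveI := hfin
  haveI := hfin'
  rw [ConcreteCategory.isIso_iff_bijective]
  let φ : M.presheaf.stalk x ≃ₗ[X.presheaf.stalk x] L.presheaf.stalk x :=
    (Module.finBasisOfFinrankEq (X.presheaf.stalk x) (M.presheaf.stalk x) hr').equiv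
      (Module.finBasisOfFinrankEq (X.presheaf.stalk x) (L.presheaf.stalk x) hr) (Equiv.refl _)
  have hs : Function.Surjective (Algz.stalkMapₗ s x) :=
    (ModuleCat.epi_iff_surjective ((DerSch.stalkFunctor X x).map s)).1 inferInstance
  exact (Function.Bijective.of_comp_iff' φ.bijective _).1
    (OrzechProperty.bijective_of_surjective_endomorphism (φ.toLinearMap.comp (Algz.stalkMapₗ s x))
      (φ.surjective.comp hs))

/-- The inclusion of ideal modules. -/
noncomputable def incl {I J : X.IdealSheafData} (h : ∀ U : X.affineOpens, I.ideal U ≤ J.ideal U) :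
    ClSub.idealMod I ⟶ ClSub.idealMod J :=
  kernel.lift (ClSub.toSubscheme J) (ClSub.idealModι I) (by
    refine Scheme.Modules.hom_ext _ _ fun W => ?_
    ext t
    refine H11Tilde.eq_of_locally _ _ fun x hx => ?_
    obtain ⟨U, hU, hxU, hUW⟩ := exists_isAffineOpen_mem_and_subset hx
    refine ⟨U, hUW, hxU, ?_⟩
    rw [← H11Tilde.app_map_apply (ClSub.idealModι I ≫ ClSub.toSubscheme J) hUW t,
      ← H11Tilde.app_map_apply (0 : ClSub.idealMod I ⟶ ClSub.quotMod J) hUW t]
    refine Eq.trans ((IdealPair.app_eq_zero_iff J hU _).2 (h ⟨U, hU⟩ ?_)) rfl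
    exact (H29Blow.mem_ideal_iff_exists_idealSect I hU _).2 ⟨_, rfl⟩)

theorem incl_ι {I J : X.IdealSheafData} (h : ∀ U : X.affineOpens, I.ideal U ≤ J.ideal U) :
    incl h ≫ ClSub.idealModι J = ClSub.idealModι I := kernel.lift_ι _ _ _

/-- The ideal of an intersection is the sum of the ideals. -/
theorem epi_desc_incl {r : ℕ} (I : Fin r → X.IdealSheafData) (J : X.IdealSheafData)
    (hJ : ∀ U : X.affineOpens, J.ideal U = ⨆ l, (I l).ideal U) :
    Epi (Sigma.desc fun l => incl (I := I l) (J := J) fun U => (le_iSup (fun l => (I l).ideal U) l).trans (hJ U).ge) := by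
  classical
  refine H11Tilde.epi_of_locally_surjective _ fun W t x hx => ?_
  obtain ⟨U, hU, hxU, hUW⟩ := exists_isAffineOpen_mem_and_subset hx
  refine ⟨U, hUW, hxU, ?_⟩
  let t' := (ClSub.idealMod J).presheaf.map (homOfLE hUW).op t
  have ht : OmegaSh.idealSect J U t' ∈ ⨆ l, (I l).ideal ⟨U, hU⟩ :=
    (hJ ⟨U, hU⟩).le ((H29Blow.mem_ideal_iff_exists_idealSect J hU _).2 ⟨t', rfl⟩)
  obtain ⟨a, ha⟩ := (Submodule.mem_iSup_iff_exists_finsupp _ _).1 ht
  choose m hm using fun l => (H29Blow.mem_ideal_iff_exists_idealSect (I l) hU _).1 (ha.1 l)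
  refine ⟨∑ l, (Sigma.ι (fun l => ClSub.idealMod (I l)) l).app U (m l), ?_⟩
  refine H29Blow.idealSect_injective J U ?_
  rw [map_sum]
  show OmegaSh.idealSect J U _ = _
  rw [map_sum]
  refine Eq.trans (Finset.sum_congr rfl fun l _ => ?_) ((ha.2 ▸ (Finsupp.sum_fintype a (fun _ v => v) fun _ => rfl).symm : ∑ l, a l = OmegaSh.idealSect J U t'))
  refine Eq.trans ?_ (hm l)
  show ((Sigma.ι (fun l => ClSub.idealMod (I l)) l ≫ Sigma.desc fun l => incl (I := I l) (J := J)
    fun U => (le_iSup (fun l => (I l).ideal U) l).trans (hJ U).ge) ≫ ClSub.idealModι J).app U (m l) = _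
  rw [Sigma.ι_desc, incl_ι]
  rfl

/-- A completely intersecting immersion is quasi-regular of the same codimension. -/
theorem isQuasiOfCodim_of_koszul {Z : Scheme.{u}} {i : Z ⟶ X} {d : ℕ}
    (h : RegImm.IsRegularImmersionOfCodim RegImm.Kind.koszul d i) : CanonSm.IsQuasiOfCodim d i := fun z => by
  obtain ⟨U, hz, hcl, rs, hlen, hrs, hker⟩ := h.2 z
  exact ⟨U, hz, hcl, rs, hlen, H29Slice.isQuasiRegular_of_isH1Regular (H29Slice.isH1Regular_of_isKoszulRegular hrs),
    hker⟩

/-- The conormal sheaf of a completely intersecting intersection is the sum of the conormal sheaves. -/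
theorem nonempty_conormal_iso {Y : Scheme.{u}} {r : ℕ} {Xs : Fin r → Scheme.{u}} (j : ∀ l, Xs l ⟶ X)
    [∀ l, IsClosedImmersion (j l)] {d : Fin r → ℕ}
    (hj : ∀ l, RegImm.IsRegularImmersionOfCodim RegImm.Kind.koszul (d l) (j l))
    (i : Y ⟶ X) [IsClosedImmersion i] (hY : ∀ U : X.affineOpens, i.ker.ideal U = ⨆ l, (j l).ker.ideal U)
    (g : ∀ l, Y ⟶ Xs l) (hg : ∀ l, g l ≫ j l = i)
    (hi : RegImm.IsRegularImmersionOfCodim RegImm.Kind.koszul (∑ l, d l) i) :
    Nonempty (Omega.conormal i ≅ ∐ fun l => (Scheme.Modules.pullback (g l)).obj (Omega.conormal (j l))) := by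
  let F := Scheme.Modules.pullback i
  let A := fun l => ClSub.idealMod (j l).ker
  let s := Sigma.desc fun l => incl (I := (j l).ker) (J := i.ker)
    fun U => (le_iSup (fun l => (j l).ker.ideal U) l).trans (hY U).ge
  haveI : Epi s := epi_desc_incl (fun l => (j l).ker) i.ker hY
  haveI : F.IsLeftAdjoint := inferInstance
  let e : ∀ l, (Scheme.Modules.pullback (g l)).obj (Omega.conormal (j l)) ≅ F.obj (A l) := fun l =>
    (Scheme.Modules.pullbackComp (g l) (j l)).app (A l) ≪≫ (Scheme.Modules.pullbackCongr (hg l)).app (A l)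
  let E : (∐ fun l => (Scheme.Modules.pullback (g l)).obj (Omega.conormal (j l))) ≅ F.obj (∐ A) :=
    Sigma.mapIso e ≪≫ (PreservesCoproduct.iso F A).symm
  let φ := E.hom ≫ F.map s
  haveI : Epi φ := inferInstance
  have hC := CanonSm.isFinLocFreeOfRank_conormal_of_quasi i (isQuasiOfCodim_of_koszul hi)
  have hA : ∀ l, FlatMod.IsFinLocFreeOfRank (d l) ((Scheme.Modules.pullback (g l)).obj (Omega.conormal (j l))) :=
    fun l => H26Gr.isFinLocFreeOfRank_pullback (g l)
      (CanonSm.isFinLocFreeOfRank_conormal_of_quasi (j l) (isQuasiOfCodim_of_koszul (hj l)))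
  haveI : IsIso φ := isIso_of_epi φ fun x => ⟨_, finrank_sigma_stalk _ x d hA, hC⟩
  exact ⟨(asIso φ).symm⟩

end Groth.Agent.H17.ConormalSum
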